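import Groth.Agent.S0447
import Groth.Agent.AbSchLib.SmoothReduced
import Groth.Agent.SGA3cLib.NormalMultCentral
import Groth.Agent.SGA3cLib.Irreducible
import Groth.Agent.SGA3cLib.WeilRes
import Groth.Agent.ConjConst26.TorusInvariants

/-! Reductive groups are essentially free, and their centres are closed subschemes. -/

set_option linter.style.haveILetI false
set_option autoImplicit false
set_option backward.isDefEq.respectTransparency.types false
set_option maxHeartbeats 1000000
set_option synthInstance.maxHeartbeats 200000

universe u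

open CategoryTheory CategoryTheory.Limits MonoidalCategory CartesianMonoidalCategory MonObj GrpObj AlgebraicGeometry

namespace Groth.Agent.RedCentre26

/-- An affine smooth morphism with geometrically integral fibres is essentially free. -/
theorem isEssentiallyFree {Z S : Scheme.{u}} (f : Z ⟶ S) [IsAffineHom f] [Smooth f] [GeometricallyIntegral f] :
    SGA3x.IsEssentiallyFree f := by
  intro s
  obtain ⟨U, hU, hs, -⟩ := exists_isAffineOpen_mem_and_subset (U := ⊤) (x := s) trivial
  haveI : IsAffine (U : Scheme.{u}) := hU
  refine ⟨U, hs, hU, (U : Scheme.{u}), hU, 𝟙 _, inferInstance, inferInstance, fun x => ⟨⊤, trivial, ?_, ?_⟩⟩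
  · haveI : IsAffine (pullback f (𝟙 (U : Scheme.{u}) ≫ U.ι)) :=
      isAffine_of_isAffineHom (pullback.snd f (𝟙 (U : Scheme.{u}) ≫ U.ι))
    exact isAffineOpen_top _
  · let p := pullback.snd f (𝟙 (U : Scheme.{u}) ≫ U.ι)
    haveI : IsAffine (pullback f (𝟙 (U : Scheme.{u}) ≫ U.ι)) := isAffine_of_isAffineHom p
    let W : (pullback f (𝟙 (U : Scheme.{u}) ≫ U.ι)).Opens := ⊤
    haveI : IsIso W.ι := (Scheme.topIso _).isIso_hom
    haveI : IsAffine (W : Scheme.{u}) := .of_isIso W.ι
    haveI : GeometricallyIntegral (W.ι ≫ p) :=
      (MorphismProperty.cancel_left_of_respectsIso @GeometricallyIntegral W.ι p).2 inferInstance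
    haveI : Smooth (W.ι ≫ p) := inferInstance
    exact S0447.result (W.ι ≫ p)

variable {S : Scheme.{u}}

/-- A smooth group with connected fibres has geometrically integral fibres. -/
theorem geometricallyIntegral (G : Over S) [GrpObj G] [Smooth G.hom]
    (hconn : ∀ s : S, _root_.IsConnected (G.hom.base ⁻¹' {s})) : GeometricallyIntegral G.hom := by
  refine ⟨?_⟩
  intro K _ q Z fst snd h
  suffices IsIntegral (Red.bc q G).left from
    ObjectProperty.prop_of_iso (P := (IsIntegral : ObjectProperty Scheme.{u})) h.isoPullback.symm this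
  haveI : Smooth (Red.bc q G).hom := MorphismProperty.pullback_snd (P := @Smooth) _ _ inferInstance
  haveI : ConnectedSpace (Red.bc q G).left := SGA3cLib.NormalMultCentral.connectedSpace_bc G
    (fun s => by
      haveI : ConnectedSpace ↥(G.hom.base ⁻¹' {s}) := isConnected_iff_connectedSpace.1 (hconn s)
      exact (G.hom.fiberHomeo s).symm.surjective.connectedSpace (G.hom.fiberHomeo s).symm.continuous) q
  haveI : IrreducibleSpace (Red.bc q G).left := SGA3cLib.irreducibleSpace_of_connected (Red.bc q G)
  haveI : IsReduced (Red.bc q G).left := AbSchLib.isReduced_of_smooth (Red.bc q G).hom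
  exact isIntegral_of_irreducibleSpace_of_isReduced (Red.bc q G).left

theorem isConnected_of_reductive {G : Over S} [GrpObj G] (hG : Red.IsReductive G) (s : S) :
    _root_.IsConnected (G.hom.base ⁻¹' {s}) := by
  haveI := (hG.2.2 s).2.2.1
  exact ConjConst26.TorusInvariants.isConnected_fibre G s

end Groth.Agent.RedCentre26
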